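import Groth.Agent.H7Lim.Proper.Chow
import Mathlib.AlgebraicGeometry.Morphisms.Proper

/-!
# Properness descends along limits with affine transition morphisms
-/

set_option autoImplicit false
set_option backward.isDefEq.respectTransparency false
set_option backward.defeqAttrib.useBackward true
set_option linter.style.haveILetI false

universe u

open AlgebraicGeometry CategoryTheory CategoryTheory.Limits Opposite TopologicalSpace
open AlgebraicGeometry.Scheme

namespace Groth.Agent.H7Lim

/-- An immersion between schemes proper over the base is a closed immersion. -/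
theorem isClosedImmersion_of_isProper {X Y : Scheme.{u}} (f : X ⟶ Y) [IsImmersion f] [IsProper f] :
    IsClosedImmersion f :=
  .of_isPreimmersion f f.isClosedMap.isClosed_range

/-- **Properness descends.** -/
theorem descends_isProper : Descends.{u} @IsProper @LocallyOfFiniteType := by
  intro J _ _ E d hd _ e _ _ T a _ _ hft hprop
  haveI : LocallyOfFiniteType a := hft
  haveI := hprop
  obtain ⟨j, φ, hj⟩ := descends_isSeparated J E d hd e a trivial inferInstance
  let b := pullback.snd a (E.map φ)
  haveI : IsSeparated b := hj
  haveI : LocallyOfFiniteType b := MorphismProperty.pullback_snd _ _ hft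
  haveI : CompactSpace (E.obj j) := QuasiCompact.compactSpace_of_compactSpace (E.map φ)
  haveI : QuasiSeparatedSpace (E.obj j) := quasiSeparatedSpace_of_quasiSeparated (E.map φ)
  haveI : CompactSpace ↥(pullback a (E.map φ)) :=
    QuasiCompact.compactSpace_of_compactSpace (pullback.fst a (E.map φ))
  haveI : QuasiSeparatedSpace ↥(pullback a (E.map φ)) :=
    quasiSeparatedSpace_of_quasiSeparated (pullback.fst a (E.map φ))
  haveI : QuasiCompact b := inferInstance
  -- the base change of `b` to the limit is the base change of `a`
  let gb : pullback a (d.π.app e) ⟶ pullback a (E.map φ) :=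
    pullback.lift (pullback.fst _ _) (pullback.snd _ _ ≫ d.π.app j)
      (by rw [Category.assoc, d.w, pullback.condition])
  have hb : IsPullback gb (pullback.snd a (d.π.app e)) b (d.π.app j) :=
    IsPullback.of_right (h₁₂ := pullback.fst a (E.map φ)) (h₂₂ := E.map φ) (v₁₃ := a)
      (by rw [pullback.lift_fst, d.w]; exact IsPullback.of_hasPullback _ _) (pullback.lift_snd _ _ _)
      (IsPullback.of_hasPullback _ _)
  obtain ⟨n, X', π, jI, hjI, hjπ, hπ, hπs⟩ := exists_chow_qcqs b
  let g₀ := CohB1.ProjSpaceOver.toBase n (E.obj j)
  haveI : IsProper g₀ := Groth.Agent.H27Weil.isProper_toBase n _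
  haveI : CompactSpace X' := QuasiCompact.compactSpace_of_compactSpace π
  haveI : QuasiSeparatedSpace X' := quasiSeparatedSpace_of_quasiSeparated π
  haveI : CompactSpace ↥(CohB1.ProjSpaceOver n (E.obj j)) :=
    QuasiCompact.compactSpace_of_compactSpace g₀
  haveI : QuasiSeparatedSpace ↥(CohB1.ProjSpaceOver n (E.obj j)) :=
    quasiSeparatedSpace_of_quasiSeparated g₀
  -- upstairs
  have hY := IsPullback.of_hasPullback g₀ (d.π.app j)
  have hX := IsPullback.of_hasPullback jI (pullback.fst g₀ (d.π.app j))
  let f := pullback.snd jI (pullback.fst g₀ (d.π.app j))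
  let g := pullback.snd g₀ (d.π.app j)
  haveI : IsImmersion f := MorphismProperty.pullback_snd _ _ hjI
  have hfg : IsPullback (pullback.fst jI (pullback.fst g₀ (d.π.app j))) (f ≫ g) (π ≫ b) (d.π.app j) := by
    rw [← hjπ]
    exact hX.paste_vert hY
  have hπ' : IsPullback (pullback.fst π gb) (pullback.snd π gb ≫ pullback.snd a (d.π.app e)) (π ≫ b)
      (d.π.app j) := (IsPullback.of_hasPullback π gb).paste_vert hb
  haveI : IsProper (pullback.snd π gb) := MorphismProperty.pullback_snd _ _ hπ
  haveI : IsProper (f ≫ g) := (prop_iff_of_isPullback (P := @IsProper) hfg).mpr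
    ((prop_iff_of_isPullback (P := @IsProper) hπ').mp inferInstance)
  haveI : IsSeparated g := inferInstance
  haveI : IsProper f := IsProper.of_comp f g
  have hclosed : IsClosedImmersion f := isClosedImmersion_of_isProper f
  obtain ⟨i, ψ, Xi, Yi, fi, gi, pY, pX, hYi, hXi, hfi⟩ :=
    exists_descend_square hd (P := @IsClosedImmersion) (Q := @LocallyOfFiniteType) j jI g₀
      descendsAffine_isClosedImmersion.descends hY hX inferInstance hclosed
  haveI := hfi
  haveI : IsProper gi := MorphismProperty.of_isPullback hYi inferInstance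
  have hXY : IsPullback pX (fi ≫ gi) (π ≫ b) (E.map ψ) := by
    rw [← hjπ]
    exact hXi.paste_vert hYi
  refine ⟨i, ψ ≫ φ, ?_⟩
  let c₀ := pullback.snd b (E.map ψ)
  haveI : IsSeparated c₀ := MorphismProperty.pullback_snd _ _ hj
  haveI : LocallyOfFiniteType c₀ := MorphismProperty.pullback_snd _ _ (inferInstance : LocallyOfFiniteType b)
  let s := pullback.snd π (pullback.fst b (E.map ψ))
  haveI : Surjective s := MorphismProperty.pullback_snd _ _ hπs
  haveI : IsProper (s ≫ c₀) := (prop_iff_of_isPullback (P := @IsProper)
    ((IsPullback.of_hasPullback π (pullback.fst b (E.map ψ))).paste_vert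
      (IsPullback.of_hasPullback b (E.map ψ)))).mpr
    ((prop_iff_of_isPullback (P := @IsProper) hXY).mp inferInstance)
  haveI : UniversallyClosed c₀ := UniversallyClosed.of_comp_surjective s c₀
  have h : IsPullback (pullback.fst b (E.map ψ) ≫ pullback.fst a (E.map φ)) c₀ a (E.map (ψ ≫ φ)) := by
    rw [E.map_comp]
    exact (IsPullback.of_hasPullback b (E.map ψ)).paste_horiz (IsPullback.of_hasPullback a (E.map φ))
  exact (prop_iff_of_isPullback (P := @IsProper) h).mp ⟨⟩

end Groth.Agent.H7Lim
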