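import Groth.Agent.H7Lim.Proper.Stage
import Groth.Agent.H7Lim.Approx.IntegralSystem

/-!
# Closed immersion, finite and proper structure maps at finite stages
-/

set_option autoImplicit false
set_option backward.isDefEq.respectTransparency false
set_option backward.defeqAttrib.useBackward true
set_option linter.style.haveILetI false
set_option linter.unusedSectionVars false

universe u

open AlgebraicGeometry CategoryTheory CategoryTheory.Limits Opposite TopologicalSpace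
open AlgebraicGeometry.Scheme

namespace Groth.Agent.H7Lim

theorem isClosedImmersion_of_cover {V S : Scheme.{u}} (g : V ⟶ S) [IsAffineHom g] {ι : Type*}
    (U : ι → S.affineOpens) (hU : ⨆ i, (U i).1 = ⊤) (h : ∀ i, Function.Surjective (g.app (U i).1)) :
    IsClosedImmersion g := by
  refine IsZariskiLocalAtTarget.of_iSup_eq_top (P := @IsClosedImmersion) (fun i => (U i).1) hU fun i => ?_
  haveI : IsAffine (U i).1.toScheme := (U i).2
  haveI : IsAffine (g ⁻¹ᵁ (U i).1).toScheme := (U i).2.preimage g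
  refine (HasAffineProperty.iff_of_isAffine (P := @IsClosedImmersion)).2 ⟨inferInstance, ?_⟩
  rw [morphismRestrict_appTop]
  have key : ∀ E, E = (U i).1 → Function.Surjective (g.app E) := by rintro E rfl; exact h i
  intro y
  obtain ⟨z, hz⟩ := ((ConcreteCategory.isIso_iff_bijective
    (V.presheaf.map (eqToHom (image_morphismRestrict_preimage g (U i).1 ⊤)).op)).1 inferInstance).2 y
  obtain ⟨w, hw⟩ := key _ (by rw [Scheme.Hom.image_top_eq_opensRange, Scheme.Opens.opensRange_ι]) z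
  refine ⟨w, ?_⟩
  rw [← hz, ← hw]
  rfl

variable {I : Type u} [Category.{u} I] [IsCofiltered I] {S : Scheme.{u}} {D : I ⥤ Scheme.{u}}
  {c : Cone D} [∀ (i j : I) (f : i ⟶ j), IsAffineHom (D.map f)]

/-- The projections of a limit with closed immersions as transition morphisms are closed immersions. -/
theorem isClosedImmersion_π_app (hc : IsLimit c) [∀ i, CompactSpace (D.obj i)]
    [∀ (i j : I) (f : i ⟶ j), IsClosedImmersion (D.map f)] (i : I) :
    IsClosedImmersion (c.π.app i) := by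
  haveI := isAffineHom_π_app D c hc i
  refine isClosedImmersion_of_cover (c.π.app i) (fun U => U) (iSup_affineOpens_eq_top _) fun U y => ?_
  obtain ⟨j, φ, s, rfl⟩ := exists_secπ_eq hc U.2 y
  obtain ⟨z, rfl⟩ := (D.map φ).app_surjective U.1 U.2 s
  refine ⟨z, ?_⟩
  simp only [secπ, ← CommRingCat.comp_apply, Scheme.Hom.app_eq_appLE, Scheme.Hom.appLE_comp_appLE, c.w φ]
  rfl

variable (t : ∀ i, D.obj i ⟶ S) (ht : ∀ {i j : I} (φ : i ⟶ j), D.map φ ≫ t j = t i)

include ht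

theorem app_eq_comp {i j : I} (φ : j ⟶ i) (U : S.Opens) :
    ∃ h : (D.map φ ⁻¹ᵁ (t i ⁻¹ᵁ U)) = t j ⁻¹ᵁ U, (t j).app U =
      (t i).app U ≫ (D.map φ).app (t i ⁻¹ᵁ U) ≫ (D.obj j).presheaf.map (eqToHom h.symm).op := by
  refine ⟨by rw [← Scheme.Hom.comp_preimage, ht], ?_⟩
  simp only [Scheme.Hom.app_eq_appLE, Scheme.Hom.appLE_map, Scheme.Hom.appLE_comp_appLE, ht]

variable (hc : IsLimit c)
include hc

theorem exists_surjective_app (i : I) [IsAffineHom (t i)] [LocallyOfFiniteType (t i)]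
    [IsClosedImmersion (c.π.app i ≫ t i)] [∀ (i j : I) (f : i ⟶ j), IsClosedImmersion (D.map f)]
    (U : S.affineOpens) :
    ∃ (j : I) (_ : j ⟶ i), Function.Surjective ((t j).app U.1) := by
  classical
  have hW : IsAffineOpen (t i ⁻¹ᵁ U.1) := U.2.preimage (t i)
  have hft : ((t i).app U.1).hom.FiniteType := by
    rw [Scheme.Hom.app_eq_appLE]
    exact HasRingHomProperty.appLE (P := @LocallyOfFiniteType) (t i) inferInstance U ⟨_, hW⟩ _
  letI := ((t i).app U.1).hom.toAlgebra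
  obtain ⟨G, hG⟩ := (show Algebra.FiniteType Γ(S, U.1) Γ(D.obj i, t i ⁻¹ᵁ U.1) from hft).out
  have hsurj : Function.Surjective ((c.π.app i ≫ t i).app U.1) := Scheme.Hom.app_surjective _ U.1 U.2
  choose a ha using fun x : G => hsurj ((c.π.app i).app (t i ⁻¹ᵁ U.1) x.1)
  obtain ⟨j, φ, hj⟩ := exists_common_stage i
    (fun (x : G) j φ ↦ (D.map φ).app (t i ⁻¹ᵁ U.1) x.1 = (D.map φ).app (t i ⁻¹ᵁ U.1) ((t i).app U.1 (a x)))
    (fun x ↦ exists_app_map_eq_map_of_isLimit D c hc hW.isCompact _ _ (ha x).symm)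
    (fun x j j' φ ψ h ↦ by
      have := congr((D.map ψ).app (D.map φ ⁻¹ᵁ (t i ⁻¹ᵁ U.1)) $h)
      simp only [← CommRingCat.comp_apply, ← Scheme.Hom.comp_app] at this
      have e : D.map (ψ ≫ φ) = D.map ψ ≫ D.map φ := D.map_comp _ _
      generalize D.map (ψ ≫ φ) = g at e ⊢
      subst e
      exact this)
  refine ⟨j, φ, fun y ↦ ?_⟩
  obtain ⟨h, he⟩ := app_eq_comp t ht φ U.1
  obtain ⟨y', rfl⟩ := ((ConcreteCategory.isIso_iff_bijective
    ((D.obj j).presheaf.map (eqToHom h.symm).op)).1 inferInstance).2 y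
  obtain ⟨z, rfl⟩ := (D.map φ).app_surjective _ hW y'
  suffices ∃ b, (D.map φ).app (t i ⁻¹ᵁ U.1) ((t i).app U.1 b) = (D.map φ).app (t i ⁻¹ᵁ U.1) z by
    obtain ⟨b, hb⟩ := this
    exact ⟨b, by rw [he, CommRingCat.comp_apply, CommRingCat.comp_apply, hb]⟩
  have hz : z ∈ Algebra.adjoin Γ(S, U.1) (G : Set Γ(D.obj i, t i ⁻¹ᵁ U.1)) := hG.ge trivial
  induction hz using Algebra.adjoin_induction with
  | mem x hx => exact ⟨a ⟨x, hx⟩, (hj ⟨x, hx⟩).symm⟩
  | algebraMap r => exact ⟨r, rfl⟩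
  | add x y _ _ hx hy =>
    obtain ⟨p, hp⟩ := hx; obtain ⟨q, hq⟩ := hy
    exact ⟨p + q, by simp only [map_add, hp, hq]⟩
  | mul x y _ _ hx hy =>
    obtain ⟨p, hp⟩ := hx; obtain ⟨q, hq⟩ := hy
    exact ⟨p * q, by simp only [map_mul, hp, hq]⟩

theorem exists_finite_app (i : I) [IsAffineHom (t i)] [LocallyOfFiniteType (t i)]
    [IsIntegralHom (c.π.app i ≫ t i)] [∀ (i j : I) (f : i ⟶ j), IsFinite (D.map f)]
    (U : S.affineOpens) :
    ∃ (j : I) (_ : j ⟶ i), ((t j).app U.1).hom.Finite := by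
  classical
  have hW : IsAffineOpen (t i ⁻¹ᵁ U.1) := U.2.preimage (t i)
  have hft : ((t i).app U.1).hom.FiniteType := by
    rw [Scheme.Hom.app_eq_appLE]
    exact HasRingHomProperty.appLE (P := @LocallyOfFiniteType) (t i) inferInstance U ⟨_, hW⟩ _
  letI := ((t i).app U.1).hom.toAlgebra
  obtain ⟨G, hG⟩ := (show Algebra.FiniteType Γ(S, U.1) Γ(D.obj i, t i ⁻¹ᵁ U.1) from hft).out
  choose q hq hqx using fun x : G => IsIntegralHom.isIntegral_app (c.π.app i ≫ t i) U.1 U.2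
    ((c.π.app i).app (t i ⁻¹ᵁ U.1) x.1)
  obtain ⟨j, φ, hj⟩ := exists_common_stage i
    (fun (x : G) j φ ↦ (D.map φ).app (t i ⁻¹ᵁ U.1) ((q x).eval₂ ((t i).app U.1).hom x.1) = 0)
    (fun x ↦ exists_app_map_eq_zero_of_isLimit D c hc hW.isCompact _ (by
      rw [Polynomial.hom_eval₂]
      exact hqx x))
    (fun x j j' φ ψ h ↦ by
      have := congr((D.map ψ).app (D.map φ ⁻¹ᵁ (t i ⁻¹ᵁ U.1)) $h)
      simp only [← CommRingCat.comp_apply, ← Scheme.Hom.comp_app, map_zero] at this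
      have e : D.map (ψ ≫ φ) = D.map ψ ≫ D.map φ := D.map_comp _ _
      generalize D.map (ψ ≫ φ) = g at e ⊢
      subst e
      exact this)
  refine ⟨j, φ, ?_⟩
  obtain ⟨h, he⟩ := app_eq_comp t ht φ U.1
  rw [he, ← Category.assoc, CommRingCat.hom_comp]
  refine (RingHom.Finite.of_surjective _ ((ConcreteCategory.isIso_iff_bijective _).1 inferInstance).2).comp ?_
  rw [CommRingCat.hom_comp]
  let α := ((D.map φ).app (t i ⁻¹ᵁ U.1)).hom
  let β := ((t i).app U.1).hom
  have hα : α.Finite := IsFinite.finite_app (f := D.map φ) _ hW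
  refine RingHom.IsIntegral.to_finite (fun y ↦ ?_) (hα.finiteType.comp hft)
  have hmid : ∀ z, (α.comp β).IsIntegralElem (α z) := by
    intro z
    have hz : z ∈ Algebra.adjoin Γ(S, U.1) (G : Set Γ(D.obj i, t i ⁻¹ᵁ U.1)) := hG.ge trivial
    induction hz using Algebra.adjoin_induction with
    | mem x hx =>
      refine ⟨q ⟨x, hx⟩, hq _, ?_⟩
      rw [← Polynomial.hom_eval₂]
      exact hj ⟨x, hx⟩
    | algebraMap r => exact RingHom.isIntegralElem_map (α.comp β) (x := r)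
    | add x y _ _ hx hy => rw [map_add]; exact hx.add _ hy
    | mul x y _ _ hx hy => rw [map_mul]; exact hx.mul _ hy
  letI := β.toAlgebra
  letI := α.toAlgebra
  letI : Algebra Γ(S, U.1) Γ(D.obj j, D.map φ ⁻¹ᵁ (t i ⁻¹ᵁ U.1)) := (α.comp β).toAlgebra
  haveI : IsScalarTower Γ(S, U.1) Γ(D.obj i, t i ⁻¹ᵁ U.1) Γ(D.obj j, D.map φ ⁻¹ᵁ (t i ⁻¹ᵁ U.1)) :=
    IsScalarTower.of_algebraMap_eq fun _ => rfl
  let A := integralClosure Γ(S, U.1) Γ(D.obj j, D.map φ ⁻¹ᵁ (t i ⁻¹ᵁ U.1))
  obtain ⟨p, hp, hpy⟩ := hα.to_isIntegral y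
  let α' : Γ(D.obj i, t i ⁻¹ᵁ U.1) →+* A := α.codRestrict A.toSubring hmid
  have hy : IsIntegral A y := ⟨p.map α', hp.map _, by rw [Polynomial.eval₂_map]; exact hpy⟩
  exact isIntegral_trans y hy

variable [∀ i, CompactSpace (D.obj i)] [∀ i, QuasiSeparatedSpace (D.obj i)]
  [∀ i, LocallyOfFiniteType (t i)] (i₀ : I)

omit hc in
theorem comp_eq (i j : I) : c.π.app i ≫ t i = c.π.app j ≫ t j :=
  π_app_comp_eq ({ app := t, naturality := fun i j f => by simp [ht] } : D ⟶ (Functor.const I).obj S) i j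

theorem exists_isClosedImmersion_structureMap [CompactSpace S] [QuasiSeparatedSpace S]
    [∀ (i j : I) (f : i ⟶ j), IsClosedImmersion (D.map f)]
    [IsClosedImmersion (c.π.app i₀ ≫ t i₀)] :
    ∃ i₁ : I, ∀ (i : I) (_ : i ⟶ i₁), IsClosedImmersion (t i) := by
  obtain ⟨i₁, hi₁⟩ := exists_isAffineHom_structureMap hc t ht i₀
  haveI := hi₁ i₁ (𝟙 _)
  haveI : IsClosedImmersion (c.π.app i₁ ≫ t i₁) := by rw [comp_eq t ht i₁ i₀]; infer_instance
  obtain ⟨T, hT⟩ := isCompact_univ.elim_finite_subcover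
    (fun W : S.affineOpens ↦ ((W : S.Opens) : Set S)) (fun W ↦ W.1.2) (fun x _ ↦ by
      simpa using (iSup_affineOpens_eq_top S).ge (Set.mem_univ x))
  obtain ⟨j, φ, hj⟩ := exists_common_stage i₁
    (fun (U : T) j _ ↦ Function.Surjective ((t j).app U.1.1))
    (fun U ↦ exists_surjective_app t ht hc i₁ U.1)
    (fun U j j' φ ψ h ↦ by
      haveI := hi₁ j φ
      obtain ⟨e, he⟩ := app_eq_comp t ht ψ U.1.1
      intro y
      obtain ⟨z, hz⟩ := ((ConcreteCategory.isIso_iff_bijective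
        ((D.obj j').presheaf.map (eqToHom e.symm).op)).1 inferInstance).2 y
      obtain ⟨w, hw⟩ := (D.map ψ).app_surjective _ (U.1.2.preimage (t j)) z
      obtain ⟨v, hv⟩ := h w
      exact ⟨v, by rw [he, CommRingCat.comp_apply, CommRingCat.comp_apply, hv, hw, hz]⟩)
  refine ⟨j, fun i a ↦ ?_⟩
  haveI := hi₁ j φ
  haveI : IsClosedImmersion (t j) := isClosedImmersion_of_cover (t j) (fun U : T => U.1)
    (top_le_iff.1 fun x _ => by
      obtain ⟨W, hW, hx⟩ := Set.mem_iUnion₂.1 (hT (Set.mem_univ x))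
      exact Opens.mem_iSup.2 ⟨⟨W, hW⟩, hx⟩) hj
  rw [← ht a]; infer_instance

theorem exists_isFinite_structureMap [CompactSpace S] [QuasiSeparatedSpace S]
    [∀ (i j : I) (f : i ⟶ j), IsFinite (D.map f)]
    [IsIntegralHom (c.π.app i₀ ≫ t i₀)] :
    ∃ i₁ : I, ∀ (i : I) (_ : i ⟶ i₁), IsFinite (t i) := by
  obtain ⟨i₁, hi₁⟩ := exists_isAffineHom_structureMap hc t ht i₀
  haveI := hi₁ i₁ (𝟙 _)
  haveI : IsIntegralHom (c.π.app i₁ ≫ t i₁) := by rw [comp_eq t ht i₁ i₀]; infer_instance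
  obtain ⟨T, hT⟩ := isCompact_univ.elim_finite_subcover
    (fun W : S.affineOpens ↦ ((W : S.Opens) : Set S)) (fun W ↦ W.1.2) (fun x _ ↦ by
      simpa using (iSup_affineOpens_eq_top S).ge (Set.mem_univ x))
  obtain ⟨j, φ, hj⟩ := exists_common_stage i₁
    (fun (U : T) j _ ↦ ((t j).app U.1.1).hom.Finite)
    (fun U ↦ exists_finite_app t ht hc i₁ U.1)
    (fun U j j' φ ψ h ↦ by
      haveI := hi₁ j φ
      obtain ⟨e, he⟩ := app_eq_comp t ht ψ U.1.1
      rw [he, CommRingCat.hom_comp, CommRingCat.hom_comp]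
      exact ((RingHom.Finite.of_surjective _ ((ConcreteCategory.isIso_iff_bijective _).1 inferInstance).2).comp
        (IsFinite.finite_app (f := D.map ψ) _ (U.1.2.preimage (t j)))).comp h)
  refine ⟨j, fun i a ↦ ?_⟩
  haveI := hi₁ j φ
  haveI : IsFinite (t j) := Approx.isFinite_of_cover (t j) (fun U : T => U.1)
    (top_le_iff.1 fun x _ => by
      obtain ⟨W, hW, hx⟩ := Set.mem_iUnion₂.1 (hT (Set.mem_univ x))
      exact Opens.mem_iSup.2 ⟨⟨W, hW⟩, hx⟩) hj
  rw [← ht a]; infer_instance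

theorem exists_isProper_structureMap [CompactSpace S] [QuasiSeparatedSpace S]
    [∀ (i j : I) (f : i ⟶ j), IsClosedImmersion (D.map f)]
    [IsProper (c.π.app i₀ ≫ t i₀)] :
    ∃ i₁ : I, ∀ (i : I) (_ : i ⟶ i₁), IsProper (t i) := by
  suffices ∃ i₁, IsProper (t i₁) by
    obtain ⟨i₁, hi₁⟩ := this
    exact ⟨i₁, fun i a ↦ by rw [← ht a]; infer_instance⟩
  obtain ⟨i₁, hi₁⟩ := exists_isSeparated_structureMap hc t ht i₀
  haveI := hi₁ i₁ (𝟙 _)
  haveI : QuasiCompact (t i₁) := inferInstance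
  haveI : IsProper (c.π.app i₁ ≫ t i₁) := by rw [comp_eq t ht i₁ i₀]; infer_instance
  obtain ⟨n, P, π, jI, hjI, hjπ, hπ, hπs⟩ := exists_chow_qcqs (t i₁)
  let g₀ := CohB1.ProjSpaceOver.toBase n S
  haveI : IsProper g₀ := Groth.Agent.H27Weil.isProper_toBase n S
  haveI : CompactSpace ↥(CohB1.ProjSpaceOver n S) := QuasiCompact.compactSpace_of_compactSpace g₀
  haveI : QuasiSeparatedSpace ↥(CohB1.ProjSpaceOver n S) := quasiSeparatedSpace_of_quasiSeparated g₀
  haveI : CompactSpace P := QuasiCompact.compactSpace_of_compactSpace π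
  haveI : QuasiSeparatedSpace P := quasiSeparatedSpace_of_quasiSeparated π
  haveI : LocallyOfFiniteType (jI ≫ g₀) := by rw [hjπ]; infer_instance
  let E := pbDiagram D i₁ π
  let t' : ∀ j : Over i₁, E.obj j ⟶ CohB1.ProjSpaceOver n S := fun j ↦ pullback.fst π (D.map j.hom) ≫ jI
  have ht' : ∀ {j k : Over i₁} (f : j ⟶ k), E.map f ≫ t' k = t' j := fun f ↦ by simp [E, t']
  haveI : ∀ (j k : Over i₁) (f : j ⟶ k), IsClosedImmersion (E.map f) := fun j k f ↦
    MorphismProperty.of_isPullback (P := @IsClosedImmersion) (isPullback_pbDiagram_map D i₁ π f).flip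
      inferInstance
  haveI : ∀ j, LocallyOfFiniteType (t' j) := fun j ↦ by
    haveI : LocallyOfFiniteType (jI : P ⟶ _) := inferInstance
    haveI : IsClosedImmersion (pullback.fst π (D.map j.hom)) := MorphismProperty.pullback_fst _ _ inferInstance
    exact inferInstanceAs (LocallyOfFiniteType (pullback.fst π (D.map j.hom) ≫ jI))
  haveI := isClosedImmersion_π_app hc i₁
  let e₀ : Over i₁ := Over.mk (𝟙 i₁)
  let m := pullback.fst π (c.π.app i₁) ≫ jI
  haveI : IsClosedImmersion (pullback.fst π (c.π.app i₁)) := MorphismProperty.pullback_fst _ _ inferInstance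
  haveI : IsImmersion m := inferInstanceAs (IsImmersion (pullback.fst π (c.π.app i₁) ≫ jI))
  haveI : IsProper (m ≫ g₀) := by
    have : m ≫ g₀ = pullback.snd π (c.π.app i₁) ≫ c.π.app i₁ ≫ t i₁ := by
      simp only [m, g₀, Category.assoc, hjπ]
      exact pullback.condition_assoc _
    rw [this]; infer_instance
  haveI : IsProper m := IsProper.of_comp m g₀
  haveI : IsClosedImmersion ((pbCone D c i₁ π).π.app e₀ ≫ t' e₀) := by
    have : (pbCone D c i₁ π).π.app e₀ ≫ t' e₀ = m := by simp [t', m, e₀]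
    rw [this]; exact isClosedImmersion_of_isProper m
  obtain ⟨j, hj⟩ := exists_isClosedImmersion_structureMap t' ht' (isLimitPbCone D i₁ π hc) e₀
  refine ⟨j.left, ?_⟩
  haveI := hj j (𝟙 _)
  haveI := hi₁ j.left j.hom
  haveI : Surjective (pullback.snd π (D.map j.hom)) := MorphismProperty.pullback_snd _ _ hπs
  haveI : IsProper (pullback.snd π (D.map j.hom) ≫ t j.left) := by
    have : pullback.snd π (D.map j.hom) ≫ t j.left = t' j ≫ g₀ := by
      simp only [t', g₀, Category.assoc, hjπ]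
      rw [pullback.condition_assoc, ht]
    rw [this]; infer_instance
  haveI : UniversallyClosed (t j.left) :=
    UniversallyClosed.of_comp_surjective (pullback.snd π (D.map j.hom)) _
  exact ⟨⟩

end Groth.Agent.H7Lim
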