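import Groth.Agent.H7Lim.Approx.Consequences
import Groth.Agent.H7Lim.DescendDiagonal
import Groth.Agent.H7Lim.FPDescent.Exists
import Groth.Agent.S0025
import Groth.Agent.H27Weil.Geometry

/-!
# Chow's lemma over a quasi-compact quasi-separated base
-/

set_option autoImplicit false
set_option backward.isDefEq.respectTransparency false
set_option backward.defeqAttrib.useBackward true
set_option linter.style.haveILetI false

universe u

open AlgebraicGeometry CategoryTheory CategoryTheory.Limits Opposite TopologicalSpace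
open AlgebraicGeometry.Scheme

namespace Groth.Agent.H7Lim

/-- Projective space over `T` is the base change of projective space over `S`. -/
theorem exists_isPullback_toBase (n : ℕ) {T S : Scheme.{u}} (q : T ⟶ S) :
    ∃ p : CohB1.ProjSpaceOver n T ⟶ CohB1.ProjSpaceOver n S,
      IsPullback p (CohB1.ProjSpaceOver.toBase n T) (CohB1.ProjSpaceOver.toBase n S) q := by
  unfold CohB1.ProjSpaceOver CohB1.ProjSpaceOver.toBase
  refine ⟨pullback.lift (pullback.fst _ _) (pullback.snd _ _ ≫ q) (by
    rw [Category.assoc, pullback.condition]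
    exact congrArg (pullback.snd _ _ ≫ ·) (specULiftZIsTerminal.hom_ext _ _)), ?_⟩
  refine IsPullback.of_right ?_ (pullback.lift_snd _ _ _) (IsPullback.of_hasPullback _ _)
  rw [pullback.lift_fst, show q ≫ specULiftZIsTerminal.from S = specULiftZIsTerminal.from T from
    specULiftZIsTerminal.hom_ext _ _]
  exact IsPullback.of_hasPullback _ _

open Approx in
/-- **Chow's lemma** for separated morphisms of finite type over a qcqs base. -/
theorem exists_chow_qcqs {X S : Scheme.{u}} (f : X ⟶ S) [CompactSpace S] [QuasiSeparatedSpace S]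
    [IsSeparated f] [LocallyOfFiniteType f] [QuasiCompact f] :
    ∃ (n : ℕ) (X' : Scheme.{u}) (π : X' ⟶ X) (j : X' ⟶ CohB1.ProjSpaceOver n S),
      IsImmersion j ∧ j ≫ CohB1.ProjSpaceOver.toBase n S = π ≫ f ∧ IsProper π ∧ Surjective π := by
  haveI : CompactSpace X := QuasiCompact.compactSpace_of_compactSpace f
  haveI : QuasiSeparatedSpace X := quasiSeparatedSpace_of_quasiSeparated f
  obtain ⟨Xb, f', i, hlfp, hqc, hqs, hcX, hqX, hi, hif, hsep⟩ := Approx.exists_isClosedImmersion_fp f
  haveI := hsep ‹_› ‹_›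
  obtain ⟨S₀, g, hg, hS₀, hS₀t⟩ := Approx.exists_affineHom_finiteType S
  haveI := quasiSeparatedSpace_of_toZ S₀
  obtain ⟨hc⟩ := Approx.nonempty_isLimit_sysCone g
  haveI : ∀ i, CompactSpace ((sys g).obj i) := fun i ↦ inferInstanceAs (CompactSpace i.unop.spec)
  haveI : ∀ i, QuasiSeparatedSpace ((sys g).obj i) := fun i ↦
    inferInstanceAs (QuasiSeparatedSpace i.unop.spec)
  haveI : ∀ (i j : (FGSub g)ᵒᵖ) (a : i ⟶ j), IsAffineHom ((sys g).map a) := fun i j a ↦
    inferInstanceAs (IsAffineHom ((system g).map a).left)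
  obtain ⟨k, ⟨M⟩⟩ := FPDescent.exists_model hc f'
  haveI := M.lfp; haveI := M.qc; haveI := M.qs
  haveI : CompactSpace M.P := QuasiCompact.compactSpace_of_compactSpace M.p
  haveI : QuasiSeparatedSpace M.P := quasiSeparatedSpace_of_quasiSeparated M.p
  obtain ⟨j, φ, hj⟩ := descends_isSeparated _ (sys g) (sysCone g) hc k M.p trivial
    ((prop_iff_of_isPullback (P := @IsSeparated) M.hpb).mp inferInstance)
  let a := pullback.snd M.p ((sys g).map φ)
  haveI : IsSeparated a := hj
  haveI : LocallyOfFiniteType a := MorphismProperty.pullback_snd _ _ (inferInstance : LocallyOfFiniteType M.p)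
  haveI : QuasiCompact a := MorphismProperty.pullback_snd _ _ M.qc
  haveI : LocallyOfFiniteType (toZ ((sys g).obj j)) := by
    show LocallyOfFiniteType (toZ j.unop.spec)
    rw [← toZ_eq (j.unop.proj ≫ toZ S₀)]; infer_instance
  haveI := isLocallyNoetherian_of_toZ ((sys g).obj j)
  haveI : IsNoetherian ((sys g).obj j) := ⟨⟩
  obtain ⟨n, X₀, π₀, j₀, hj₀, hjπ, hπ₀, hsurj, -⟩ := Groth.Agent.S0025.result a
  let gj : Xb ⟶ pullback M.p ((sys g).map φ) :=
    pullback.lift M.g (f' ≫ (sysCone g).π.app j) (by rw [Category.assoc, (sysCone g).w]; exact M.hpb.w)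
  have h : IsPullback gj f' a ((sysCone g).π.app j) :=
    IsPullback.of_right (h₁₂ := pullback.fst M.p ((sys g).map φ)) (h₂₂ := (sys g).map φ) (v₁₃ := M.p)
      (by rw [pullback.lift_fst, (sysCone g).w]; exact M.hpb) (pullback.lift_snd _ _ _)
      (IsPullback.of_hasPullback _ _)
  obtain ⟨p, hp⟩ := exists_isPullback_toBase n ((sysCone g).π.app j : S ⟶ _)
  have h' : IsPullback (pullback.fst π₀ gj) (pullback.snd π₀ gj ≫ f')
      (j₀ ≫ CohB1.ProjSpaceOver.toBase n _) ((sysCone g).π.app j) := by
    rw [hjπ]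
    exact (IsPullback.of_hasPullback π₀ gj).paste_vert h
  let m := hp.lift (pullback.fst π₀ gj ≫ j₀) (pullback.snd π₀ gj ≫ f')
    (by rw [Category.assoc]; exact h'.w)
  have hm : IsPullback (pullback.fst π₀ gj) m j₀ p :=
    IsPullback.of_bot (by rw [hp.lift_snd]; exact h') (hp.lift_fst _ _ _).symm hp
  haveI : IsImmersion m := MorphismProperty.of_isPullback hm hj₀
  haveI : IsProper (pullback.snd π₀ gj) := MorphismProperty.pullback_snd _ _ hπ₀
  haveI : Surjective (pullback.snd π₀ gj) := MorphismProperty.pullback_snd _ _ hsurj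
  haveI : IsClosedImmersion (pullback.fst (pullback.snd π₀ gj) i) :=
    MorphismProperty.pullback_fst _ _ hi
  refine ⟨n, _, pullback.snd (pullback.snd π₀ gj) i, pullback.fst (pullback.snd π₀ gj) i ≫ m,
    inferInstance, ?_, MorphismProperty.pullback_snd _ _ ‹_›, MorphismProperty.pullback_snd _ _ ‹_›⟩
  have hm' : m ≫ CohB1.ProjSpaceOver.toBase n S = pullback.snd π₀ gj ≫ f' := hp.lift_snd _ _ _
  rw [Category.assoc, hm', pullback.condition_assoc, hif]

end Groth.Agent.H7Lim
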