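import Groth.Agent.H7Lim.Proper.Descend
import Groth.Agent.H7Lim.IdealDescent

/-!
# A closed subscheme of a limit is the limit of its scheme-theoretic images
-/

set_option autoImplicit false
set_option backward.isDefEq.respectTransparency false
set_option backward.defeqAttrib.useBackward true
set_option linter.style.haveILetI false
set_option linter.unusedSectionVars false

universe u

open AlgebraicGeometry CategoryTheory CategoryTheory.Limits Opposite TopologicalSpace
open AlgebraicGeometry.Scheme

namespace Groth.Agent.H7Lim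

variable {J : Type u} [Category.{u} J] {E : J ⥤ Scheme.{u}} {d : Cone E} {X : Scheme.{u}}
  (k : X ⟶ d.pt)

/-- The scheme-theoretic image of `X` at a stage. -/
noncomputable abbrev imgι (j : J) : ((k ≫ d.π.app j).ker).subscheme ⟶ E.obj j :=
  (k ≫ d.π.app j).ker.subschemeι

theorem imgι_le {i j : J} (a : i ⟶ j) : (imgι k j).ker ≤ (imgι k i ≫ E.map a).ker := by
  refine le_of_eq ?_
  calc (imgι k j).ker = (k ≫ d.π.app j).ker := Scheme.IdealSheafData.ker_subschemeι _
    _ = (k ≫ d.π.app i ≫ E.map a).ker := by rw [d.w a]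
    _ = ((k ≫ d.π.app i).ker).map (E.map a) := by
      rw [Scheme.IdealSheafData.map_ker, Category.assoc]
    _ = ((imgι k i).ker).map (E.map a) :=
      congrArg (fun K ↦ Scheme.IdealSheafData.map K (E.map a))
        (Scheme.IdealSheafData.ker_subschemeι _).symm
    _ = (imgι k i ≫ E.map a).ker := Scheme.IdealSheafData.map_ker _ _

/-- The system of images. -/
noncomputable def imgDiagram : J ⥤ Scheme.{u} where
  obj j := (k ≫ d.π.app j).ker.subscheme
  map {i j} a := IsClosedImmersion.lift (imgι k j) (imgι k i ≫ E.map a) (imgι_le k a)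
  map_id j := by
    rw [← cancel_mono (imgι k j), IsClosedImmersion.lift_fac, E.map_id, Category.comp_id, Category.id_comp]
  map_comp {i j l} a b := by
    rw [← cancel_mono (imgι k l), IsClosedImmersion.lift_fac, E.map_comp, Category.assoc,
      IsClosedImmersion.lift_fac, IsClosedImmersion.lift_fac_assoc, Category.assoc]

theorem imgDiagram_map_ι {i j : J} (a : i ⟶ j) :
    (imgDiagram k).map a ≫ imgι k j = imgι k i ≫ E.map a := IsClosedImmersion.lift_fac _ _ _

/-- The projection from `X`. -/
noncomputable def toImg (j : J) : X ⟶ (imgDiagram k).obj j :=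
  IsClosedImmersion.lift (imgι k j) (k ≫ d.π.app j) (by rw [Scheme.IdealSheafData.ker_subschemeι])

theorem toImg_ι (j : J) : toImg k j ≫ imgι k j = k ≫ d.π.app j := IsClosedImmersion.lift_fac _ _ _

/-- `X` over the system of images. -/
noncomputable def imgCone : Cone (imgDiagram k) where
  pt := X
  π :=
    { app := fun j ↦ toImg k j
      naturality := fun i j a ↦ by
        show 𝟙 X ≫ toImg k j = toImg k i ≫ (imgDiagram k).map a
        rw [← cancel_mono (imgι k j), Category.id_comp, toImg_ι, Category.assoc, imgDiagram_map_ι,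
          ← Category.assoc, toImg_ι, Category.assoc, d.w] }

instance isAffineHom_imgDiagram_map [∀ (i j : J) (f : i ⟶ j), IsAffineHom (E.map f)] {i j : J}
    (a : i ⟶ j) : IsAffineHom ((imgDiagram k).map a) := by
  haveI : IsAffineHom ((imgDiagram k).map a ≫ imgι k j) := by rw [imgDiagram_map_ι]; infer_instance
  exact MorphismProperty.of_postcomp @IsAffineHom ((imgDiagram k).map a) (imgι k j)
    (show IsSeparated (imgι k j) from inferInstance) ‹_›

theorem nonempty_isLimit_imgCone [IsCofiltered J] [∀ (i j : J) (f : i ⟶ j), IsAffineHom (E.map f)]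
    [∀ j, CompactSpace (E.obj j)] [∀ j, QuasiSeparatedSpace (E.obj j)] (hd : IsLimit d)
    [IsClosedImmersion k] : Nonempty (IsLimit (imgCone k)) := by
  haveI := fun j ↦ isAffineHom_π_app E d hd j
  haveI : Nonempty J := IsCofiltered.nonempty
  let j₀ : J := Classical.arbitrary J
  haveI : CompactSpace d.pt := QuasiCompact.compactSpace_of_compactSpace (d.π.app j₀)
  haveI : QuasiSeparatedSpace d.pt := quasiSeparatedSpace_of_quasiSeparated (d.π.app j₀)
  let push : Cone (imgDiagram k) → Cone E := fun s ↦
    { pt := s.pt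
      π :=
        { app := fun j ↦ s.π.app j ≫ imgι k j
          naturality := fun i j a ↦ by
            show 𝟙 _ ≫ s.π.app j ≫ imgι k j = (s.π.app i ≫ imgι k i) ≫ E.map a
            rw [Category.id_comp, ← s.w a, Category.assoc, Category.assoc, imgDiagram_map_ι] } }
  have hm : ∀ s, k.ker ≤ (hd.lift (push s)).ker := by
    intro s
    rw [← iSup_finiteType_eq k.ker]
    refine iSup_le fun F ↦ ?_
    obtain ⟨j, Fj, -, hFj⟩ := exists_idealSheaf_comap hd F.1 F.2.2
    rw [← hFj, ← Scheme.IdealSheafData.le_map_iff_comap_le, Scheme.IdealSheafData.map_ker, hd.fac]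
    refine le_trans ?_ ((s.π.app j).le_ker_comp (imgι k j))
    rw [Scheme.IdealSheafData.ker_subschemeι, ← Scheme.IdealSheafData.map_ker,
      Scheme.IdealSheafData.le_map_iff_comap_le, hFj]
    exact F.2.1
  exact ⟨{
    lift := fun s ↦ IsClosedImmersion.lift k (hd.lift (push s)) (hm s)
    fac := fun s j ↦ by
      show _ ≫ toImg k j = _
      rw [← cancel_mono (imgι k j), Category.assoc, toImg_ι, IsClosedImmersion.lift_fac_assoc, hd.fac]
    uniq := fun s m hm' ↦ by
      rw [← cancel_mono k, IsClosedImmersion.lift_fac]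
      refine hd.uniq (push s) _ fun j ↦ ?_
      show (m ≫ k) ≫ d.π.app j = s.π.app j ≫ imgι k j
      rw [Category.assoc, ← toImg_ι, ← hm' j, Category.assoc]
      rfl }⟩

end Groth.Agent.H7Lim
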