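import Groth.Agent.H7Lim.Proper.Descend
import Groth.Agent.H7Lim.Approx.Eventually

/-!
# A morphism proper over the limit is proper over some stage
-/

set_option autoImplicit false
set_option backward.isDefEq.respectTransparency false
set_option backward.defeqAttrib.useBackward true
set_option linter.style.haveILetI false
set_option linter.unusedSectionVars false

universe u

open AlgebraicGeometry CategoryTheory CategoryTheory.Limits Opposite TopologicalSpace
open AlgebraicGeometry.Scheme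

namespace Groth.Agent.H7Lim

variable {I : Type u} [Category.{u} I] [IsCofiltered I] {S : Scheme.{u}} {D : I ⥤ Scheme.{u}}
  (t : D ⟶ (Functor.const I).obj S) {c : Cone D}

/-- The structure maps of the limit agree. -/
theorem π_app_comp_eq (i j : I) : c.π.app i ≫ t.app i = c.π.app j ≫ t.app j := by
  have h : ∀ {i j : I} (a : i ⟶ j), c.π.app j ≫ t.app j = c.π.app i ≫ t.app i := fun {i j} a ↦ by
    rw [← c.w a, Category.assoc, t.naturality a]; simp
  rw [h (IsCofiltered.minToLeft i j), h (IsCofiltered.minToRight i j)]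

/-- A closed subscheme of the limit of finite type over the base embeds into a stage. -/
theorem exists_isClosedImmersion_stage' (hc : IsLimit c)
    [∀ (i j : I) (f : i ⟶ j), IsAffineHom (D.map f)] [∀ i, CompactSpace (D.obj i)]
    {Y : Scheme.{u}} (k : Y ⟶ c.pt) [IsClosedImmersion k] (i₀ : I)
    [LocallyOfFiniteType (k ≫ c.π.app i₀ ≫ t.app i₀)] :
    ∃ (i : I) (_ : i ⟶ i₀), IsClosedImmersion (k ≫ c.π.app i) := by
  let D' : I ⥤ Over S :=
    { obj := fun i ↦ Over.mk (t.app i)
      map := fun {i j} a ↦ Over.homMk (D.map a) (by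
        show D.map a ≫ t.app j = t.app i
        rw [t.naturality a]; simp) }
  let c' : Cone D' :=
    { pt := Over.mk (c.π.app i₀ ≫ t.app i₀)
      π :=
        { app := fun i ↦ Over.homMk (c.π.app i) (π_app_comp_eq t i i₀)
          naturality := fun i j a ↦ Over.OverMorphism.ext (by
            show 𝟙 c.pt ≫ c.π.app j = c.π.app i ≫ D.map a
            rw [Category.id_comp, c.w]) } }
  let pr : Cone D' → Cone D := fun s ↦
    { pt := s.pt.left
      π :=
        { app := fun i ↦ (s.π.app i).left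
          naturality := fun i j a ↦ by
            show 𝟙 _ ≫ (s.π.app j).left = (s.π.app i).left ≫ D.map a
            rw [Category.id_comp, ← congr(($(s.w a)).left)]
            rfl } }
  have hc' : IsLimit c' :=
    { lift := fun s ↦ Over.homMk (hc.lift (pr s)) (by
        show hc.lift (pr s) ≫ c.π.app i₀ ≫ t.app i₀ = s.pt.hom
        rw [hc.fac_assoc]
        exact Over.w (s.π.app i₀))
      fac := fun s i ↦ Over.OverMorphism.ext (hc.fac (pr s) i)
      uniq := fun s m hm ↦ Over.OverMorphism.ext (hc.uniq (pr s) m.left fun i ↦ congr(($(hm i)).left)) }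
  haveI : ∀ (i j : I) (f : i ⟶ j), IsAffineHom (D'.map f).left := fun i j f ↦
    inferInstanceAs (IsAffineHom (D.map f))
  haveI : ∀ i, CompactSpace (D'.obj i).left := fun i ↦ inferInstanceAs (CompactSpace (D.obj i))
  haveI : LocallyOfFiniteType ((k : Y ⟶ c'.pt.left) ≫ c'.pt.hom) := ‹_›
  exact Approx.exists_isClosedImmersion_stage hc' (k : Y ⟶ c'.pt.left) i₀

/-- The same inside a base change of the system. -/
theorem exists_isClosedImmersion_pullback_stage (hc : IsLimit c)
    [∀ (i j : I) (f : i ⟶ j), IsAffineHom (D.map f)] (i : I) {W : Scheme.{u}} (a : W ⟶ D.obj i)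
    [CompactSpace W] {Y : Scheme.{u}} (k : Y ⟶ pullback a (c.π.app i)) [IsClosedImmersion k]
    [LocallyOfFiniteType (k ≫ pullback.snd a (c.π.app i) ≫ c.π.app i ≫ t.app i)] :
    ∃ (j : I) (φ : j ⟶ i), IsClosedImmersion
      (k ≫ pullback.map a (c.π.app i) a (D.map φ) (𝟙 W) (c.π.app j) (𝟙 _) (by simp) (by simp)) := by
  let e₀ : Over i := Over.mk (𝟙 i)
  let T : pbDiagram D i a ⟶ (Functor.const (Over i)).obj S :=
    { app := fun j ↦ pullback.snd a (D.map j.hom) ≫ t.app j.left
      naturality := fun j j' f ↦ by simp [t.naturality] }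
  haveI : LocallyOfFiniteType ((k : Y ⟶ (pbCone D c i a).pt) ≫ (pbCone D c i a).π.app e₀ ≫ T.app e₀) := by
    have : (pbCone D c i a).π.app e₀ ≫ T.app e₀ = pullback.snd a (c.π.app i) ≫ c.π.app i ≫ t.app i := by
      simp [T, e₀]
    rw [this]; infer_instance
  obtain ⟨j, -, hj⟩ := exists_isClosedImmersion_stage' T (isLimitPbCone D i a hc)
    (k : Y ⟶ (pbCone D c i a).pt) e₀
  exact ⟨j.left, j.hom, hj⟩

/-- A morphism separated over the limit is separated over a stage. -/
theorem exists_isSeparated_stage (hc : IsLimit c) [∀ (i j : I) (f : i ⟶ j), IsAffineHom (D.map f)]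
    [∀ i, CompactSpace (D.obj i)] [∀ i, QuasiSeparatedSpace (D.obj i)] (i₀ : I)
    {Y : Scheme.{u}} (h : Y ⟶ c.pt) [IsSeparated h] [QuasiCompact h]
    [LocallyOfFiniteType (h ≫ c.π.app i₀ ≫ t.app i₀)] :
    ∃ i : I, IsSeparated (h ≫ c.π.app i) := by
  haveI := fun i ↦ isAffineHom_π_app D c hc i
  haveI : CompactSpace c.pt := QuasiCompact.compactSpace_of_compactSpace (c.π.app i₀)
  haveI : QuasiSeparatedSpace c.pt := quasiSeparatedSpace_of_quasiSeparated (c.π.app i₀)
  haveI : CompactSpace Y := QuasiCompact.compactSpace_of_compactSpace h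
  haveI : QuasiSeparatedSpace Y := quasiSeparatedSpace_of_quasiSeparated h
  haveI : LocallyOfFiniteType h := locallyOfFiniteType_of_comp h (c.π.app i₀ ≫ t.app i₀)
  obtain ⟨W, f', ι, hlfp, hqc, hqs, hcW, hqW, hι, hιf, hsep⟩ := Approx.exists_isClosedImmersion_fp h
  haveI := hsep ‹_› ‹_›
  obtain ⟨k, ⟨M⟩⟩ := FPDescent.exists_model hc f'
  haveI := M.lfp; haveI := M.qc; haveI := M.qs
  haveI : CompactSpace M.P := QuasiCompact.compactSpace_of_compactSpace M.p
  haveI : QuasiSeparatedSpace M.P := quasiSeparatedSpace_of_quasiSeparated M.p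
  obtain ⟨j, φ, hj⟩ := descends_isSeparated _ D c hc k M.p trivial
    ((prop_iff_of_isPullback (P := @IsSeparated) M.hpb).mp inferInstance)
  haveI : LocallyOfFiniteType ((ι ≫ M.hpb.isoPullback.hom) ≫ pullback.snd M.p (c.π.app k) ≫
      c.π.app k ≫ t.app k) := by
    rw [Category.assoc, M.hpb.isoPullback_hom_snd_assoc, reassoc_of% hιf, π_app_comp_eq t k i₀]
    infer_instance
  obtain ⟨j', φ', hj'⟩ := exists_isClosedImmersion_pullback_stage t hc k M.p (ι ≫ M.hpb.isoPullback.hom)
  let l := IsCofiltered.min j j'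
  have hl : IsSeparated (pullback.snd M.p (D.map (IsCofiltered.minToLeft j j' ≫ φ))) :=
    prop_snd_of_fac (D.map (IsCofiltered.minToLeft j j')) (by simp) hj
  obtain ⟨l', w, hw⟩ : ∃ (l' : I) (w : l' ⟶ l),
      w ≫ IsCofiltered.minToLeft j j' ≫ φ = w ≫ IsCofiltered.minToRight j j' ≫ φ' :=
    ⟨IsCofiltered.eq _ _, IsCofiltered.eqHom _ _, IsCofiltered.eq_condition _ _⟩
  let ψ := w ≫ IsCofiltered.minToRight j j'
  haveI : IsSeparated (pullback.snd M.p (D.map (ψ ≫ φ'))) := by
    have : IsSeparated (pullback.snd M.p (D.map (w ≫ IsCofiltered.minToLeft j j' ≫ φ))) :=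
      prop_snd_of_fac (D.map w) (by simp) hl
    rwa [hw, ← Category.assoc] at this
  let k' := ι ≫ M.hpb.isoPullback.hom ≫ pullback.map M.p (c.π.app k) M.p (D.map (ψ ≫ φ')) (𝟙 _)
    (c.π.app l') (𝟙 _) (by simp) (by simp)
  let m := pullback.map M.p (D.map (ψ ≫ φ')) M.p (D.map φ') (𝟙 _) (D.map ψ) (𝟙 _) (by simp) (by simp)
  haveI : IsClosedImmersion (k' ≫ m) := by
    have : k' ≫ m = (ι ≫ M.hpb.isoPullback.hom) ≫
        pullback.map M.p (c.π.app k) M.p (D.map φ') (𝟙 _) (c.π.app j') (𝟙 _) (by simp) (by simp) := by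
      simp only [k', Category.assoc]
      congr 2
      apply pullback.hom_ext <;> simp [m]
    rw [this]; exact hj'
  haveI : IsAffineHom m := (isAffineHom_pbDiagram_map D k M.p (j := Over.mk (ψ ≫ φ')) (k := Over.mk φ')
    (Over.homMk ψ rfl))
  haveI : IsClosedImmersion k' := IsClosedImmersion.of_comp k' m
  refine ⟨l', ?_⟩
  have : h ≫ c.π.app l' = k' ≫ pullback.snd M.p (D.map (ψ ≫ φ')) := by
    simp [k', ← hιf]
  rw [this]; infer_instance

/-- **A morphism proper over the limit is proper over all sufficiently small stages.** -/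
theorem exists_isProper_stage (hc : IsLimit c) [∀ (i j : I) (f : i ⟶ j), IsAffineHom (D.map f)]
    [∀ i, CompactSpace (D.obj i)] [∀ i, QuasiSeparatedSpace (D.obj i)] (i₀ : I)
    {Y : Scheme.{u}} (h : Y ⟶ c.pt) [IsProper h]
    [LocallyOfFiniteType (h ≫ c.π.app i₀ ≫ t.app i₀)] :
    ∃ i₁ : I, ∀ (i : I) (_ : i ⟶ i₁), IsProper (h ≫ c.π.app i) := by
  haveI := fun i ↦ isAffineHom_π_app D c hc i
  suffices ∃ i₁, IsProper (h ≫ c.π.app i₁) by
    obtain ⟨i₁, hi₁⟩ := this
    refine ⟨i₁, fun i a ↦ ?_⟩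
    haveI : IsProper ((h ≫ c.π.app i) ≫ D.map a) := by rwa [Category.assoc, c.w]
    exact IsProper.of_comp (h ≫ c.π.app i) (D.map a)
  haveI : CompactSpace c.pt := QuasiCompact.compactSpace_of_compactSpace (c.π.app i₀)
  haveI : CompactSpace Y := QuasiCompact.compactSpace_of_compactSpace h
  obtain ⟨i, hi⟩ := exists_isSeparated_stage t hc i₀ h
  haveI : LocallyOfFiniteType ((h ≫ c.π.app i) ≫ t.app i) := by
    rw [Category.assoc, π_app_comp_eq t i i₀]; infer_instance
  haveI : LocallyOfFiniteType (h ≫ c.π.app i) := locallyOfFiniteType_of_comp _ (t.app i)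
  haveI : QuasiCompact (h ≫ c.π.app i) := inferInstance
  obtain ⟨n, P, π, jI, hjI, hjπ, hπ, hπs⟩ := exists_chow_qcqs (h ≫ c.π.app i)
  let g₀ := CohB1.ProjSpaceOver.toBase n (D.obj i)
  haveI : IsProper g₀ := Groth.Agent.H27Weil.isProper_toBase n _
  let k : P ⟶ pullback g₀ (c.π.app i) := pullback.lift jI (π ≫ h) (by rw [hjπ, Category.assoc])
  haveI : IsImmersion (k ≫ pullback.fst g₀ (c.π.app i)) := by rw [pullback.lift_fst]; exact hjI
  haveI : IsImmersion k := IsImmersion.of_comp k (pullback.fst g₀ (c.π.app i))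
  haveI : IsProper (pullback.snd g₀ (c.π.app i)) := inferInstance
  haveI : IsProper (k ≫ pullback.snd g₀ (c.π.app i)) := by rw [pullback.lift_snd]; infer_instance
  haveI : IsProper k := IsProper.of_comp k (pullback.snd g₀ (c.π.app i))
  haveI : IsClosedImmersion k := isClosedImmersion_of_isProper k
  haveI : CompactSpace ↥(CohB1.ProjSpaceOver n (D.obj i)) :=
    QuasiCompact.compactSpace_of_compactSpace g₀
  haveI : LocallyOfFiniteType (k ≫ pullback.snd g₀ (c.π.app i) ≫ c.π.app i ≫ t.app i) := by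
    rw [pullback.lift_snd_assoc, Category.assoc, π_app_comp_eq t i i₀]
    infer_instance
  obtain ⟨j, φ, hj⟩ := exists_isClosedImmersion_pullback_stage t hc i g₀ k
  refine ⟨j, ?_⟩
  let k' := k ≫ pullback.map g₀ (c.π.app i) g₀ (D.map φ) (𝟙 _) (c.π.app j) (𝟙 _) (by simp) (by simp)
  haveI : IsClosedImmersion k' := hj
  haveI : IsProper (π ≫ h ≫ c.π.app j) := by
    have : π ≫ h ≫ c.π.app j = k' ≫ pullback.snd g₀ (D.map φ) := by
      simp only [k', Category.assoc, pullback.map, pullback.lift_snd, k]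
      rw [pullback.lift_snd_assoc]
      simp
    rw [this]; infer_instance
  haveI : UniversallyClosed (h ≫ c.π.app j) := UniversallyClosed.of_comp_surjective π _
  haveI : IsSeparated ((h ≫ c.π.app j) ≫ D.map φ) := by rwa [Category.assoc, c.w]
  haveI : IsSeparated (h ≫ c.π.app j) := IsSeparated.of_comp _ (D.map φ)
  haveI : LocallyOfFiniteType ((h ≫ c.π.app j) ≫ t.app j) := by
    rw [Category.assoc, π_app_comp_eq t j i₀]; infer_instance
  haveI : LocallyOfFiniteType (h ≫ c.π.app j) := locallyOfFiniteType_of_comp _ (t.app j)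
  exact ⟨⟩

end Groth.Agent.H7Lim
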